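import Groth.Prelude
import Groth.Agent.SectExtU.Dense
import Groth.Agent.FpqcDescent.IdealGlue
import Groth.Agent.ConsEngine.LimFlat
import Groth.Agent.AbsApprox.Basic

/-!
An ideal of finite type which dies on the limit dies at a stage; schematic density in a limit.
-/

set_option autoImplicit false
set_option linter.style.haveILetI false
set_option backward.isDefEq.respectTransparency false
universe u
open CategoryTheory CategoryTheory.Limits AlgebraicGeometry

namespace Groth.Agent.LimDense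

variable {I : Type u} [SmallCategory I] [IsCofiltered I] (D : I ⥤ Scheme.{u})
  [∀ {i j} (f : i ⟶ j), IsAffineHom (D.map f)] (c : Cone D) (hc : IsLimit c)

include hc in
theorem exists_app_eq_zero_forall {i : I} {ι : Type u} (t : Finset ι) (V : ι → (D.obj i).Opens)
    (hV : ∀ a, IsCompact ((V a : (D.obj i).Opens) : Set (D.obj i))) (s : ∀ a, Γ(D.obj i, V a))
    (hs : ∀ a ∈ t, (c.π.app i).app (V a) (s a) = 0) :
    ∃ (j : I) (f : j ⟶ i), ∀ a ∈ t, (D.map f).app (V a) (s a) = 0 := by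
  classical
  induction t using Finset.induction with
  | empty => exact ⟨i, 𝟙 i, by simp⟩
  | insert a t _ ih =>
    obtain ⟨j, f, hj⟩ := ih fun b hb => hs b (Finset.mem_insert_of_mem hb)
    obtain ⟨k, g, hk⟩ := exists_app_map_eq_zero_of_isLimit D c hc (hV a) (s a) (hs a (Finset.mem_insert_self _ _))
    obtain ⟨l, p, q, hpq⟩ := IsCofiltered.cospan f g
    refine ⟨l, p ≫ f, fun b hb => ?_⟩
    rcases Finset.mem_insert.1 hb with rfl | hb
    · rw [hpq, Functor.map_comp, Scheme.Hom.comp_app, CommRingCat.comp_apply, hk, map_zero]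
    · rw [Functor.map_comp, Scheme.Hom.comp_app, CommRingCat.comp_apply, hj b hb, map_zero]

include hc in
/-- an ideal of finite type which dies on the limit dies at a stage -/
theorem exists_comap_eq_bot {i : I} [IsNoetherian (D.obj i)] (K : (D.obj i).IdealSheafData)
    (hK : K.comap (c.π.app i) = ⊥) : ∃ (j : I) (f : j ⟶ i), K.comap (D.map f) = ⊥ := by
  classical
  haveI : IsAffineHom (c.π.app i) := isAffineHom_π_app _ _ hc i
  obtain ⟨t, ht⟩ := isCompact_univ.elim_finite_subcover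
    (fun W : (D.obj i).affineOpens => ((W : (D.obj i).Opens) : Set (D.obj i))) (fun W => (W : (D.obj i).Opens).2)
    (fun y _ => by
      obtain ⟨_, ⟨W, hW, rfl⟩, hyW, -⟩ :=
        (D.obj i).isBasis_affineOpens.exists_subset_of_mem_open (Set.mem_univ y) isOpen_univ
      exact Set.mem_iUnion.2 ⟨⟨W, hW⟩, hyW⟩)
  have hfg : ∀ W : (D.obj i).affineOpens, (K.ideal W).FG := fun W =>
    haveI := IsLocallyNoetherian.component_noetherian (X := D.obj i) W
    IsNoetherian.noetherian (K.ideal W)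
  choose G hG using hfg
  have hzero : ∀ (W : (D.obj i).affineOpens), ∀ s ∈ K.ideal W, (c.π.app i).app W.1 s = 0 := fun W s hs => by
    have h := FpqcDescent.ideal_comap_appLE K (c.π.app i) W ⟨_, W.2.preimage (c.π.app i)⟩ le_rfl
    rw [hK, Scheme.IdealSheafData.ideal_bot, Pi.bot_apply] at h
    have h2 := h.ge (Ideal.mem_map_of_mem _ hs)
    rw [Ideal.mem_bot] at h2
    rw [Scheme.Hom.app_eq_appLE]
    exact h2
  obtain ⟨j, f, hf⟩ := exists_app_eq_zero_forall D c hc (t.sigma G) (fun a => a.1.1)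
    (fun a => a.1.2.isCompact) (fun a => a.2) fun a ha => hzero a.1 a.2
      (hG a.1 ▸ Ideal.subset_span (Finset.mem_sigma.1 ha).2)
  refine ⟨j, f, Scheme.IdealSheafData.ext_of_iSup_eq_top
    (fun W : t => (⟨D.map f ⁻¹ᵁ W.1.1, W.1.2.preimage (D.map f)⟩ : (D.obj j).affineOpens)) ?_ fun W => ?_⟩
  · refine top_le_iff.1 fun y _ => ?_
    obtain ⟨W, hW, hyW⟩ := Set.mem_iUnion₂.1 (ht (Set.mem_univ (D.map f y)))
    exact TopologicalSpace.Opens.mem_iSup.2 ⟨⟨W, hW⟩, hyW⟩
  · rw [Scheme.IdealSheafData.ideal_bot, Pi.bot_apply,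
      FpqcDescent.ideal_comap_appLE K (D.map f) W.1 ⟨_, W.1.2.preimage (D.map f)⟩ le_rfl, ← hG W.1, Ideal.map_span,
      Ideal.span_eq_bot]
    rintro _ ⟨s, hs, rfl⟩
    rw [← Scheme.Hom.app_eq_appLE]
    exact hf ⟨W.1, s⟩ (Finset.mem_sigma.2 ⟨W.2, hs⟩)

/-- flat preimages of quasi-compact schematically dense opens -/
theorem isSchematicallyDense_preimage {X Y : Scheme.{u}} (f : Y ⟶ X) [Flat f] (U : X.Opens) [QuasiCompact U.ι]
    (h : CInt.IsSchematicallyDense U) : CInt.IsSchematicallyDense (f ⁻¹ᵁ U) := by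
  haveI : IsSchemeTheoreticallyDominant U.ι := ⟨SectExtU.ker_ι_eq_bot h⟩
  haveI : IsSchemeTheoreticallyDominant (f ⁻¹ᵁ U).ι :=
    IsSchemeTheoreticallyDominant.of_isPullback (isPullback_morphismRestrict f U)
  haveI : QuasiCompact (f ⁻¹ᵁ U).ι :=
    MorphismProperty.of_isPullback (isPullback_morphismRestrict f U) ‹_›
  exact SectExtU.isSchematicallyDense_of_ι

/-- an open whose closure ideal pulls back to zero along a flat map has a schematically dense preimage -/
theorem isSchematicallyDense_preimage_of_comap {X Y : Scheme.{u}} (f : Y ⟶ X) [Flat f] (U : X.Opens) [QuasiCompact U.ι]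
    (h : U.ι.ker.comap f = ⊥) : CInt.IsSchematicallyDense (f ⁻¹ᵁ U) := by
  haveI : IsSchemeTheoreticallyDominant U.ι.toImage := AbsApprox.std_of_cover _ fun y => by
    obtain ⟨_, ⟨W, hW, rfl⟩, hyW, -⟩ :=
      X.isBasis_affineOpens.exists_subset_of_mem_open (Set.mem_univ (U.ι.imageι y)) isOpen_univ
    exact ⟨⟨U.ι.imageι ⁻¹ᵁ W, hW.preimage _⟩, hyW, U.ι.toImage_app_injective ⟨W, hW⟩⟩
  haveI : QuasiCompact U.ι.toImage := inferInstance
  let Q := pullback U.ι.imageι f
  have sq : IsPullback (pullback.fst U.ι.imageι f) (pullback.snd U.ι.imageι f) U.ι.imageι f := IsPullback.of_hasPullback _ _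
  have sq' : IsPullback (f ∣_ U) (f ⁻¹ᵁ U).ι (U.ι.toImage ≫ U.ι.imageι) f := by
    rw [U.ι.toImage_imageι]
    exact isPullback_morphismRestrict f U
  let l : (f ⁻¹ᵁ U).toScheme ⟶ Q := pullback.lift ((f ∣_ U) ≫ U.ι.toImage) (f ⁻¹ᵁ U).ι (by
    rw [Category.assoc, sq'.w])
  have hl : IsPullback (f ∣_ U) l U.ι.toImage (pullback.fst U.ι.imageι f) := by
    refine IsPullback.of_bot ?_ (by simp [l]) sq
    rw [show l ≫ pullback.snd U.ι.imageι f = (f ⁻¹ᵁ U).ι from pullback.lift_snd _ _ _]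
    exact sq'
  haveI : Flat (pullback.fst U.ι.imageι f) := inferInstance
  haveI : IsSchemeTheoreticallyDominant l := IsSchemeTheoreticallyDominant.of_isPullback hl
  have hker : (pullback.snd U.ι.imageι f).ker = ⊥ := by
    rw [← Scheme.Hom.ker_comp_of_isIso (pullbackSymmetry f U.ι.imageι).hom, pullbackSymmetry_hom_comp_snd,
      Scheme.IdealSheafData.ker_fst_of_isClosedImmersion]
    simpa using h
  haveI : IsIso (pullback.snd U.ι.imageι f) :=
    IsClosedImmersion.isIso_iff_ker_eq_bot.mpr hker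
  haveI : QuasiCompact (f ⁻¹ᵁ U).ι :=
    MorphismProperty.of_isPullback (isPullback_morphismRestrict f U) ‹QuasiCompact U.ι›
  haveI : IsSchemeTheoreticallyDominant (f ⁻¹ᵁ U).ι := by
    rw [← show l ≫ pullback.snd U.ι.imageι f = (f ⁻¹ᵁ U).ι from pullback.lift_snd _ _ _]
    infer_instance
  exact SectExtU.isSchematicallyDense_of_ι

end Groth.Agent.LimDense
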